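import Groth.Agent.QC70.DevissageAux

set_option autoImplicit false
set_option backward.isDefEq.respectTransparency.types false

/-! Serre classes of coherent modules on a Noetherian scheme and supports. -/

noncomputable section

universe u

open CategoryTheory Limits AlgebraicGeometry TopologicalSpace Opposite

namespace Groth.Agent.CohSerre72

open QC70

variable {X : Scheme.{u}}

/-- In a short exact sequence of coherent modules the middle term has `P` iff both outer terms do. -/
def IsSerreCoh (P : X.Modules → Prop) : Prop :=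
  ∀ S : ShortComplex X.Modules, S.ShortExact → Coh.IsCoh S.X₁ → Coh.IsCoh S.X₂ →
    Coh.IsCoh S.X₃ → (P S.X₂ ↔ P S.X₁ ∧ P S.X₃)

lemma support_X₂ (S : ShortComplex X.Modules) (hS : S.ShortExact) :
    CohB1.support S.X₂ = CohB1.support S.X₁ ∪ CohB1.support S.X₃ := by
  haveI := hS.mono_f
  haveI := hS.epi_g
  refine Set.Subset.antisymm (fun x hx => ?_)
    (Set.union_subset (mem_support_of_mono S.f) (mem_support_of_epi S.g))
  by_contra h
  rw [Set.mem_union, not_or] at h
  have h₁ := notMem_support_iff.mp h.1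
  have h₃ := notMem_support_iff.mp h.2
  refine hx (subsingleton_of_forall_eq 0 fun e => ?_)
  obtain ⟨d, rfl⟩ := stalkMapM_exact S hS.exact x e (h₃.elim _ _)
  rw [h₁.elim d 0]
  exact map_zero (stalkLinear S.f x)

lemma isSerreCoh_support_subset (T : Set X) :
    IsSerreCoh fun M : X.Modules => CohB1.support M ⊆ T :=
  fun S hS _ _ _ => by
    dsimp only
    rw [support_X₂ S hS, Set.union_subset_iff]

lemma isSerreCoh_notMem_support (x : X) :
    IsSerreCoh fun M : X.Modules => x ∉ CohB1.support M :=
  fun S hS _ _ _ => by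
    dsimp only
    rw [support_X₂ S hS, Set.mem_union, not_or]

lemma isSerreCoh_false : IsSerreCoh fun _ : X.Modules => False := fun _ _ _ _ _ => by simp

/-- A point of the support of `F` lying in the support of `I` lies in the support of `F / I·F`. -/
lemma mem_support_quot [IsLocallyNoetherian X] (I : X.IdealSheafData) {F : X.Modules}
    (hF : Coh.IsCoh F) {x : X} (hxI : x ∈ (I.support : Set X)) (hxF : x ∈ CohB1.support F) :
    x ∈ CohB1.support (quotSC I F).X₃ := by
  obtain ⟨_, _⟩ := hF
  haveI := finite_stalk F x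
  intro hsub
  have hsurj : ∀ e, ∃ d, stalkMapM (Dual3.idealMulι I F) x d = e := fun e =>
    haveI := (quotSC_shortExact I F).mono_f
    stalkMapM_exact (quotSC I F) (quotSC_shortExact I F).exact x e (hsub.elim _ _)
  have hle : (⊤ : Submodule (X.presheaf.stalk x) (F.presheaf.stalk x)) ≤
      IsLocalRing.maximalIdeal (X.presheaf.stalk x) • ⊤ := by
    intro e _
    obtain ⟨d, rfl⟩ := hsurj e
    obtain ⟨W₀, hxW₀, s, rfl⟩ := germM_exist d
    obtain ⟨_, ⟨W, hW, rfl⟩, hxW, hWW₀⟩ :=
      X.isBasis_affineOpens.exists_subset_of_mem_open hxW₀ W₀.2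
    rw [← germM_res (M := (Dual3.idealMul I).obj F) hWW₀ hxW s, stalkMapM_germ]
    refine Submodule.smul_induction_on ((mem_idealMul_iff I F ⟨W, hW⟩ _).mp ⟨_, rfl⟩)
      (fun a ha t _ => ?_) fun t t' ht ht' => ?_
    · rw [germM_smul]
      refine Submodule.smul_mem_smul ?_ Submodule.mem_top
      rw [IsLocalRing.mem_maximalIdeal, mem_nonunits_iff]
      have h := (Scheme.IdealSheafData.mem_support_iff_of_mem (U := ⟨W, hW⟩) hxW).mp hxI
      rw [Scheme.mem_zeroLocus_iff] at h
      exact fun hu => h a ha ((Scheme.mem_basicOpen X a x hxW).mpr hu)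
    · rw [germM_add]
      exact add_mem ht ht'
  have hbot := Submodule.eq_bot_of_le_smul_of_le_jacobson_bot
    (IsLocalRing.maximalIdeal (X.presheaf.stalk x))
    (⊤ : Submodule (X.presheaf.stalk x) (F.presheaf.stalk x)) Module.Finite.fg_top hle
    (IsLocalRing.maximalIdeal_le_jacobson ⊥)
  exact hxF (Submodule.subsingleton_iff (X.presheaf.stalk x) |>.mp
    (subsingleton_of_bot_eq_top hbot.symm))

lemma exists_isCoh_support_eq [IsLocallyNoetherian X] (Z : Closeds X) :
    ∃ F : X.Modules, Coh.IsCoh F ∧ CohB1.support F = (Z : Set X) := by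
  have hu : Coh.IsCoh (Coh.structureModule X) := isCoh_unit
  haveI := hu.1
  let I := Scheme.IdealSheafData.vanishingIdeal Z
  have hI : (I.support : Set X) = Z := Scheme.IdealSheafData.coe_support_vanishingIdeal Z
  refine ⟨(quotSC I (Coh.structureModule X)).X₃, isCoh_quot I hu,
    ((support_quot_subset_right I _).trans hI.le).antisymm fun x hx => ?_⟩
  exact mem_support_quot I hu (hI.ge hx)
    (not_subsingleton_iff_nontrivial.mpr (nontrivial_stalk_unit x))

variable {P : X.Modules → Prop}

lemma IsSerreCoh.prop_zero (h : IsSerreCoh P) {F : X.Modules} (hF : Coh.IsCoh F) (hPF : P F)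
    {M : X.Modules} (hM : IsZero M) : P M := by
  have hS : (ShortComplex.mk (0 : M ⟶ F) (𝟙 F) (by simp)).ShortExact :=
    ShortComplex.Splitting.shortExact
      { r := 0
        s := 𝟙 F
        f_r := hM.eq_of_src _ _
        s_g := by simp
        id := by simp }
  exact ((h _ hS (isCoh_of_isZero hM) hF hF).mp hPF).1

lemma IsSerreCoh.prop_of_iso (h : IsSerreCoh P) {M N : X.Modules} (e : M ≅ N) (hM : Coh.IsCoh M)
    (hP : P M) : P N := by
  have hZ : IsZero (⨁ fun i : Fin 0 => (i.elim0 : X.Modules)) := by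
    rw [IsZero.iff_id_eq_zero]
    exact biproduct.hom_ext _ _ fun i => i.elim0
  have hS : (ShortComplex.mk (0 : (⨁ fun i : Fin 0 => (i.elim0 : X.Modules)) ⟶ N) e.inv
      (by simp)).ShortExact :=
    ShortComplex.Splitting.shortExact
      { r := 0
        s := e.hom
        f_r := hZ.eq_of_src _ _
        s_g := e.hom_inv_id
        id := by simp }
  exact (h _ hS (isCoh_of_isZero hZ) (isCoh_of_iso e hM) hM).mpr ⟨h.prop_zero hM hP hZ, hP⟩

/-- A Serre class of coherent modules containing `F` contains every coherent module supported in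
the support of `F`. -/
theorem IsSerreCoh.prop_of_support_subset [IsNoetherian X] (h : IsSerreCoh P) {F E : X.Modules}
    (hF : Coh.IsCoh F) (hPF : P F) (hE : Coh.IsCoh E)
    (hsupp : CohB1.support E ⊆ CohB1.support F) : P E := by
  haveI := hF.1
  haveI := hF.2
  refine (devissage (fun M => Coh.IsCoh M → P M) (fun M N ⟨e⟩ hM hN => ?_)
    (fun M hM _ => h.prop_zero hF hPF hM) (fun S hS h₁ h₂ h₃ p₁ p₃ _ => ?_)
    (fun G r hG hr hP _ => ?_) (CohB1.support F) (isClosed_support F) (fun y hy _ => ?_)
    E hE hsupp) hE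
  · have hM' := isCoh_of_iso e.symm hN
    exact h.prop_of_iso e hM' (hM hM')
  · exact (h S hS h₁ h₂ h₃).mpr ⟨p₁ h₁, p₃ h₃⟩
  · obtain ⟨n, rfl⟩ : ∃ n, r = n + 1 := ⟨r - 1, by omega⟩
    have hb : Coh.IsCoh (⨁ fun _ : Fin (n + 1) => G) := isCoh_biproduct _ fun _ => hG
    have hc := isCoh_of_iso (biproduct.isoCoproduct fun _ : Fin (n + 1) => G) hb
    have hP' : P (⨁ fun _ : Fin (n + 1) => G) :=
      h.prop_of_iso (biproduct.isoCoproduct fun _ : Fin (n + 1) => G).symm hc (hP hc)
    exact ((h _ (consSC_shortExact fun _ : Fin (n + 1) => G) hG hb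
      (isCoh_biproduct _ fun _ => hG)).mp hP').1
  · let Y : Closeds X := ⟨closure {y}, isClosed_closure⟩
    let I := Scheme.IdealSheafData.vanishingIdeal Y
    have hI : (I.support : Set X) = closure {y} :=
      Scheme.IdealSheafData.coe_support_vanishingIdeal Y
    have hG := isCoh_quot I hF
    haveI := hG.1
    have hPG : P (quotSC I F).X₃ :=
      ((h _ (quotSC_shortExact I F) (isCoh_idealMul I hF) hF hG).mp hPF).2
    refine ⟨_, hG, not_subsingleton_iff_nontrivial.mp
      (mem_support_quot I hF (hI.ge (subset_closure rfl)) hy),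
      stalk_killed (Y := Y) rfl fun W a ha t => smul_quot_eq_zero I F W ha t, fun J hJ => ?_⟩
    refine ⟨_, 𝟙 _, inferInstance, isCoh_idealMul J hG, ?_, fun hc => ?_⟩
    · rw [Category.id_comp]
      exact bijective_stalk_idealMulι J _ hJ
    · exact ((h _ (quotSC_shortExact J _) hc hG (isCoh_quot J hG)).mp hPG).1

lemma IsSerreCoh.exists_support_union (h : IsSerreCoh P) {F G : X.Modules} (hF : Coh.IsCoh F)
    (hG : Coh.IsCoh G) (hPF : P F) (hPG : P G) :
    ∃ M : X.Modules, Coh.IsCoh M ∧ P M ∧
      CohB1.support M = CohB1.support F ∪ CohB1.support G := by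
  let S : ShortComplex X.Modules :=
    ShortComplex.mk (biprod.inl : F ⟶ F ⊞ G) biprod.snd biprod.inl_snd
  have hS : S.ShortExact := (ShortComplex.Splitting.ofHasBinaryBiproduct F G).shortExact
  have hM := isCoh_X₂ S hS hF hG
  exact ⟨_, hM, (h S hS hF hM hG).mpr ⟨hPF, hPG⟩, support_X₂ S hS⟩

end Groth.Agent.CohSerre72
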